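import Groth.Prelude.Def_SGA7a
import Groth.Prelude.Def_Curve
import Mathlib.AlgebraicGeometry.FunctionField
import Mathlib.AlgebraicGeometry.Geometrically.Integral
import Mathlib.AlgebraicGeometry.Morphisms.Proper
import Mathlib.GroupTheory.Finiteness
import Mathlib.RingTheory.EssentialFiniteness
import Mathlib.RingTheory.AlgebraicIndependent.Basic
import Mathlib.RingTheory.MvPolynomial.Homogeneous
import Mathlib.RingTheory.UniqueFactorizationDomain.Basic
import Mathlib.FieldTheory.IsSepClosed
import Mathlib.Data.Real.Basic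

/-!
# Roquette's theorem and the Mordell-Weil theorem over finitely generated fields: definitions

Architecture for S18688 (finite generation of the units and the Picard group of a regular finitely generated
`ℤ`-algebra).  A finitely generated field is a field `K` with `Algebra.EssFiniteType ℤ K`.
-/

set_option autoImplicit false

universe u v

open CategoryTheory CategoryTheory.Limits AlgebraicGeometry MonObj MonoidalCategory
  CartesianMonoidalCategory

namespace Groth.Agent.MultTori.K441

/-- `K` is the fraction field of a finitely generated `ℤ`-algebra which is a unique factorization domain with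
finitely generated unit group. -/
def Good (K : Type u) [Field K] : Prop :=
  ∃ (R : Type u) (_ : CommRing R) (_ : IsDomain R) (_ : Algebra R K), Algebra.FiniteType ℤ R ∧
    IsFractionRing R K ∧ UniqueFactorizationMonoid R ∧ Group.FG Rˣ

/-- The transcendence degree of `K` over its prime field is `n`. -/
def Tr (K : Type u) [Field K] (n : ℕ) : Prop :=
  ∃ t : Fin n → K, IsTranscendenceBasis (⊥ : Subfield K) t

/-- Mordell-Weil for all abelian varieties over `K`. -/
def MW (K : Type u) [Field K] : Prop :=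
  ∀ (A : Over (Spec (CommRingCat.of K))) [GrpObj A] [IsCommMonObj A] [IsProper A.hom]
    [GeometricallyIntegral A.hom], Group.FG (𝟙_ (Over (Spec (CommRingCat.of K))) ⟶ A)

/-- `K` is the function field of the integral scheme `C` over the field `F`. -/
def IsFF (F : Type u) [Field F] (C : Over (Spec (CommRingCat.of F))) [IsIntegral C.left]
    (K : Type u) [Field K] [Algebra F K] : Prop :=
  ∃ e : C.left.functionField ≅ CommRingCat.of K,
    Spec.map e.hom ≫ C.left.fromSpecStalk (genericPoint C.left) ≫ C.hom =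
      Spec.map (CommRingCat.ofHom (algebraMap F K))

/-- The vector of values of a tuple of polynomials at a vector. -/
noncomputable def ev {K : Type*} [Field K] {I T : Type} (f : T → MvPolynomial I K) (v : I → K) : T → K :=
  fun i => MvPolynomial.eval v (f i)

/-- A system of heights on the projective spaces over `K`: `D` (a degree) and `L` (a logarithmic size). -/
structure HeightSys (K : Type u) [Field K] where
  D : ∀ (I : Type) [Fintype I], (I → K) → ℝ
  L : ∀ (I : Type) [Fintype I], (I → K) → ℝ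
  D_nonneg : ∀ (I : Type) [Fintype I] (v : I → K), v ≠ 0 → 0 ≤ D I v
  L_nonneg : ∀ (I : Type) [Fintype I] (v : I → K), v ≠ 0 → 0 ≤ L I v
  D_smul : ∀ (I : Type) [Fintype I] (c : K) (v : I → K), c ≠ 0 → v ≠ 0 → D I (c • v) = D I v
  L_smul : ∀ (I : Type) [Fintype I] (c : K) (v : I → K), c ≠ 0 → v ≠ 0 → L I (c • v) = L I v
  northcott : ∀ (I : Type) [Fintype I] (B : ℝ), ∃ s : Set (I → K), s.Finite ∧
    ∀ v : I → K, v ≠ 0 → D I v ≤ B → L I v ≤ B → ∃ c : K, c ≠ 0 ∧ c • v ∈ s
  upper : ∀ (I T : Type) [Fintype I] [Fintype T] (a : ℕ) (f : T → MvPolynomial I K),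
    (∀ i, (f i).IsHomogeneous a) → ∃ C : ℝ, ∀ v : I → K, v ≠ 0 → ev f v ≠ 0 →
      D T (ev f v) ≤ a * D I v + C ∧ L T (ev f v) ≤ a * L I v + C * D I v + C
  lower : ∀ (I T : Type) [Fintype I] [Fintype T] (d N : ℕ) (F : T → MvPolynomial I K)
    (b : I → T → MvPolynomial I K), d ≤ N →
    (∀ i, (F i).IsHomogeneous d) → (∀ i j, (b i j).IsHomogeneous (N - d)) → ∃ C : ℝ, ∀ v : I → K, v ≠ 0 →
      (∀ i, v i ^ N = ∑ j, MvPolynomial.eval v (b i j) * MvPolynomial.eval v (F j)) →
      d * D I v - C ≤ D T (ev F v) ∧ d * L I v - C * D I v - C ≤ L T (ev F v)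

/-- A degree and a size on a domain, up to bounded errors multiplicative. -/
structure DegNorm (R : Type u) [CommRing R] where
  deg : R → ℕ
  nm : R → ℝ
  C : ℝ
  one_le : 1 ≤ C
  deg_mul : ∀ x y : R, x ≠ 0 → y ≠ 0 → deg (x * y) = deg x + deg y
  deg_add : ∀ x y : R, deg (x + y) ≤ max (deg x) (deg y)
  nm_zero : nm 0 = 0
  one_le_nm : ∀ x : R, x ≠ 0 → 1 ≤ nm x
  nm_add : ∀ x y : R, nm (x + y) ≤ nm x + nm y
  nm_mul : ∀ x y : R, nm (x * y) ≤ nm x * nm y
  nm_mul' : ∀ x y : R, x ≠ 0 → y ≠ 0 → nm x * nm y ≤ C ^ (deg (x * y) + 1) * nm (x * y)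
  fin : ∀ B : ℝ, {x : R | (deg x : ℝ) ≤ B ∧ nm x ≤ B}.Finite

/-- Projective coordinates on a commutative group `G` (in applications `A(K)`, `A` an abelian variety), with
translations given by tuples of forms of a fixed degree, and multiplication by `m` given by forms of degree
`m ^ 2` without common zeros, for `m` large. -/
structure ProjCoord (K : Type u) [Field K] (G : Type v) [CommGroup G] where
  I : Type
  [fintype : Fintype I]
  P : G → I → K
  ne : ∀ x, P x ≠ 0
  inj : ∀ x y (c : K), P y = c • P x → x = y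
  a : ℕ
  add : ∀ y : G, ∃ (J : Type) (_ : Finite J) (f : J → I → MvPolynomial I K),
    (∀ j i, (f j i).IsHomogeneous a) ∧
      ∀ x, ∃ j, ∃ c : K, c ≠ 0 ∧ ev (f j) (P x) = c • P (x * y)
  m0 : ℕ
  mul : ∀ m, m0 ≤ m → ∃ (N : ℕ) (F : I → MvPolynomial I K) (b : I → I → MvPolynomial I K), m ^ 2 ≤ N ∧
    (∀ i, (F i).IsHomogeneous (m ^ 2)) ∧ (∀ i j, (b i j).IsHomogeneous (N - m ^ 2)) ∧
    (∀ x i, P x i ^ N = ∑ j, MvPolynomial.eval (P x) (b i j) * MvPolynomial.eval (P x) (F j)) ∧
    ∀ x, ∃ c : K, c ≠ 0 ∧ ev F (P x) = c • P (x ^ m)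

attribute [instance] ProjCoord.fintype

/-- `p`-adic valuation divisible by `l`, for a prime element `p` of a unique factorization domain. -/
def DvdVal {R K : Type u} [CommRing R] [Field K] [Algebra R K] (l : ℕ) (p : R) (b : K) : Prop :=
  ∃ (n : ℤ) (s t : R), ¬ p ∣ s ∧ ¬ p ∣ t ∧
    b * algebraMap R K t = algebraMap R K p ^ ((l : ℤ) * n) * algebraMap R K s

/-- The theorem of Chevalley-Weil for the multiplication by a prime number `l` on abelian varieties over `K`:
the radical elements generated by the `l`-division points are unramified outside a fixed element `r`. -/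
def ChevWeil (K : Type u) [Field K] : Prop :=
  ∀ (A : Over (Spec (CommRingCat.of K))) [GrpObj A] [IsCommMonObj A] [IsProper A.hom]
    [GeometricallyIntegral A.hom] (l : ℕ) (_ : l.Prime) (_ : (l : K) ≠ 0)
    (R : Type u) [CommRing R] [IsDomain R] [UniqueFactorizationMonoid R] [Algebra R K] [IsFractionRing R K]
    (_ : Algebra.FiniteType ℤ R),
    ∃ r : R, r ≠ 0 ∧ ∀ (Ks : Type u) [Field Ks] [Algebra K Ks] [IsSepClosure K Ks] (p : R), Prime p → ¬ p ∣ r →
      ∀ (x : 𝟙_ (Over (Spec (CommRingCat.of K))) ⟶ A) (y : SGA7.Pts Ks A),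
        y ^ l = toUnit (SGA7.pt Ks) ≫ x → ∀ (β : Ks) (b : K), b ≠ 0 → β ^ l = algebraMap K Ks b →
          (∀ σ : Ks ≃ₐ[K] Ks, SGA7.galAct σ y = y → σ β = β) → DvdVal l p b

end Groth.Agent.MultTori.K441
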