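import Groth.Agent.MultTori.K441.Descent
import Groth.Agent.MultTori.K872.Gelfond
import Groth.Agent.MultTori.K92.DegZmod
import Groth.Agent.MultTori.K92.NormFld
import Groth.Agent.MultTori.K722.HtSys

/-!
# Mordell-Weil over finitely generated fields, from projective coordinates and the weak theorem
-/

set_option autoImplicit false

universe u v

open CategoryTheory CategoryTheory.Limits AlgebraicGeometry MonObj MonoidalCategory
  CartesianMonoidalCategory

namespace Groth.Agent.MultTori.K441

/-- A group with projective coordinates over a finitely generated field. -/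
theorem fg_of_projCoord_fgField
    (hA4 : ∀ (F₀ F : Type u) [Field F₀] [Field F] [Algebra F₀ F] [FiniteDimensional F₀ F]
      (G : Type u) [CommGroup G] (_ : ProjCoord F G), Nonempty (ProjCoord F₀ G))
    (F : Type u) [Field F] [Algebra.EssFiniteType ℤ F] (G : Type u) [CommGroup G] (P : ProjCoord F G)
    (l : ℕ) (hl : 2 ≤ l) (hfin : Finite (G ⧸ (powMonoidHom l : G →* G).range)) : Group.FG G := by
  obtain ⟨F₀, r, hfd, h⟩ := K92.NormFld.exists_normalization F
  have hfd' : FiniteDimensional F₀ F := hfd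
  obtain ⟨P₀⟩ := hA4 F₀ F G P
  have hH : Nonempty (HeightSys F₀) := by
    rcases h with ⟨_, h⟩ | ⟨p, hp, _, h⟩
    · obtain ⟨d⟩ := K872.degNorm_int r
      exact K722.HtSys.heightSys_of_degNorm _ _ d
    · obtain ⟨d⟩ := K92.DegZmod.degNorm_zmod p r
      exact K722.HtSys.heightSys_of_degNorm _ _ d
  obtain ⟨H⟩ := hH
  exact fg_of_projCoord' H P₀ l hl hfin

/-- A prime number invertible in a field. -/
theorem exists_prime_ne_zero (K : Type u) [Field K] : ∃ l : ℕ, l.Prime ∧ (l : K) ≠ 0 := by
  by_cases h2 : ((2 : ℕ) : K) = 0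
  · refine ⟨3, Nat.prime_three, fun h3 => ?_⟩
    have h4 : ((3 : ℕ) : K) - ((2 : ℕ) : K) = 1 := by norm_num
    rw [h2, h3, sub_zero] at h4
    exact zero_ne_one h4
  · exact ⟨2, Nat.prime_two, h2⟩

/-- Mordell-Weil over a finitely generated field, from its ingredients. -/
theorem mw_of
    (hA4 : ∀ (F₀ F : Type u) [Field F₀] [Field F] [Algebra F₀ F] [FiniteDimensional F₀ F]
      (G : Type u) [CommGroup G] (_ : ProjCoord F G), Nonempty (ProjCoord F₀ G))
    (K : Type u) [Field K] [Algebra.EssFiniteType ℤ K]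
    (hB : ∀ (A : Over (Spec (CommRingCat.of K))) [GrpObj A]
      [IsCommMonObj A] [IsProper A.hom] [GeometricallyIntegral A.hom],
      Nonempty (ProjCoord K (𝟙_ (Over (Spec (CommRingCat.of K))) ⟶ A)))
    (hW : ∀ (A : Over (Spec (CommRingCat.of K))) [GrpObj A]
      [IsCommMonObj A] [IsProper A.hom] [GeometricallyIntegral A.hom] (l : ℕ), l.Prime → (l : K) ≠ 0 →
      Finite ((𝟙_ (Over (Spec (CommRingCat.of K))) ⟶ A) ⧸
        (powMonoidHom l : (𝟙_ (Over (Spec (CommRingCat.of K))) ⟶ A) →* _).range)) : MW K := by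
  intro A _ _ _ _
  obtain ⟨P⟩ := hB A
  obtain ⟨l, hl, hlK⟩ := exists_prime_ne_zero K
  exact fg_of_projCoord_fgField hA4 K _ P l hl.two_le (hW A l hl hlK)

end Groth.Agent.MultTori.K441
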