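import Groth.Agent.MultTori.K441.Defs
import Mathlib.RingTheory.AlgebraicIndependent.TranscendenceBasis

/-!
# A finitely generated field has a finite transcendence basis over its prime field
-/

set_option autoImplicit false
universe u

namespace Groth.Agent.MultTori.K441

theorem exists_tr (K : Type u) [Field K] [Algebra.EssFiniteType ℤ K] : ∃ n, Tr K n := by
  classical
  obtain ⟨σ, hσ⟩ := (Algebra.essFiniteType_iff ℤ K).1 inferInstance
  let k := (⊥ : Subfield K)
  have hle : ∀ x ∈ Algebra.adjoin ℤ (σ : Set K), x ∈ Algebra.adjoin k (σ : Set K) := by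
    intro x hx
    induction hx using Algebra.adjoin_induction with
    | mem x hx => exact Algebra.subset_adjoin hx
    | algebraMap r =>
      rw [show algebraMap ℤ K r = algebraMap k K (r : k) by simp]
      exact Subalgebra.algebraMap_mem _ _
    | add x y _ _ hx hy => exact add_mem hx hy
    | mul x y _ _ hx hy => exact mul_mem hx hy
  have halg : Algebra.IsAlgebraic (Algebra.adjoin k (σ : Set K)) K := by
    refine ⟨fun x => ?_⟩
    obtain ⟨t, ht, hu, hxt⟩ := hσ x
    refine ⟨Polynomial.C (⟨t, hle t ht⟩ : Algebra.adjoin k (σ : Set K)) * Polynomial.X -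
      Polynomial.C (⟨x * t, hle _ hxt⟩ : Algebra.adjoin k (σ : Set K)), ?_, ?_⟩
    · intro h0
      have h1 := congrArg (fun p => Polynomial.coeff p 1) h0
      simp only [Polynomial.coeff_sub, Polynomial.coeff_C_mul, Polynomial.coeff_X_one, mul_one,
        Polynomial.coeff_C_succ, sub_zero, Polynomial.coeff_zero] at h1
      exact hu.ne_zero (congrArg Subtype.val h1)
    · simp only [map_sub, map_mul, Polynomial.aeval_C, Polynomial.aeval_X]
      change t * x - x * t = 0
      ring
  obtain ⟨t, ht, hb⟩ := exists_isTranscendenceBasis_subset (R := k) (σ : Set K)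
  have hfin : t.Finite := σ.finite_toSet.subset ht
  let e : Fin hfin.toFinset.card ≃ t :=
    (hfin.toFinset.equivFin.symm).trans (Equiv.subtypeEquivRight fun x => hfin.mem_toFinset)
  refine ⟨hfin.toFinset.card, fun i => (e i : K), ?_⟩
  exact (isTranscendenceBasis_equiv e).2 hb

end Groth.Agent.MultTori.K441
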