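import Groth.Agent.MultTori.K441.AsmMW
import Groth.Agent.MultTori.K441.TrExists
import Groth.Agent.MultTori.K949.ProjRes
import Groth.Agent.MultTori.K409.RQB
import Groth.Agent.MultTori.K275.ChevWeil
import Groth.Agent.MultTori.K644.WeakMW
import Groth.Agent.MultTori.K788.GoodPidFinal
import Groth.Agent.MultTori.K92.GoodZero
import Groth.Agent.MultTori.K318.PidCurve
import Groth.Agent.MultTori.K327.Curve
import Groth.Agent.MultTori.K44.PinsMain
import Groth.Agent.MultTori.K984.FgOfGood

/-!
# Mordell-Weil over finitely generated fields and Roquette's theorem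

* `mw`: the Mordell-Weil theorem for abelian varieties over finitely generated fields;
* `good`: every finitely generated field is the fraction field of a factorial finitely generated `ℤ`-algebra;
* `roquette`: the units and the Picard group of a regular finitely generated `ℤ`-domain are finitely generated.
-/

set_option autoImplicit false

universe u v

open CategoryTheory CategoryTheory.Limits AlgebraicGeometry MonObj MonoidalCategory
  CartesianMonoidalCategory TensorProduct

namespace Groth.Agent.MultTori.K441

/-- Mordell-Weil over a finitely generated field all of whose finite extensions are good. -/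
theorem mw_of_good (K : Type u) [Field K] [Algebra.EssFiniteType ℤ K]
    (hg : ∀ (K' : Type u) [Field K'] [Algebra K K'] [FiniteDimensional K K'], Good K') : MW K := by
  refine mw_of (fun F₀ F _ _ _ _ G _ P => K949.ProjRes.projCoord_restrict F₀ F G P) K
    (fun A _ _ _ _ => K409.projCoord_abelian K A) ?_
  intro A _ _ _ _ l hl hlK
  exact K644.WeakMW.weakMW K (fun K' _ _ _ => ⟨hg K', K275.ChevWeil.chevWeil_of_field K'⟩) A l hl hlK

theorem essFiniteType_of_finite (K L : Type u) [Field K] [Field L] [Algebra K L] [FiniteDimensional K L]
    [Algebra.EssFiniteType ℤ K] : Algebra.EssFiniteType ℤ L := by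
  have h : Algebra.FiniteType K L := inferInstance
  have : Algebra.EssFiniteType K L := inferInstance
  exact Algebra.EssFiniteType.comp ℤ K L

/-- The statement of the induction. -/
def Claim (n : ℕ) : Prop := ∀ (K : Type u) [Field K] [Algebra.EssFiniteType ℤ K], Tr K n → Good K

theorem claim_zero : Claim.{u} 0 := fun K _ _ h => K92.GoodZero.good_of_tr_zero K h

theorem claim_succ (n : ℕ) (hn : Claim.{u} n) : Claim.{u} (n + 1) := by
  intro K _ _ hK
  obtain ⟨K', _, _, _, _, F, _, _, _, hF, C, hC, _, _, hFF⟩ := K327.CurveFib.exists_curve K n hK
  refine K44.Pins.good_of_purelyInseparable K K' ?_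
  have hmw : ∀ (F' : Type u) [Field F'] [Algebra F F'] [FiniteDimensional F F'], MW F' := by
    intro F' _ _ _
    have h1 : Algebra.EssFiniteType ℤ F' := essFiniteType_of_finite F F'
    refine mw_of_good F' fun F'' _ _ _ => ?_
    have h2 : Algebra.EssFiniteType ℤ F'' := essFiniteType_of_finite F' F''
    have h3 : Tr F' n := K327.FldTr.Tr_of_isAlgebraic hF
    exact hn F'' (K327.FldTr.Tr_of_isAlgebraic h3)
  obtain ⟨D, _, _, _, _, _, h1, h2, h3, h4, h5⟩ := K318.PidCurve.exists_pid_of_curve F hmw C hC K' hFF
  exact K788.good_of_pid F (hn F hF) D h4 h5 K'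

theorem claim (n : ℕ) : Claim.{u} n := by
  induction n with
  | zero => exact claim_zero
  | succ n ih => exact claim_succ n ih

/-- Every finitely generated field is the fraction field of a finitely generated `ℤ`-algebra which is a unique
factorization domain with finitely generated units. -/
theorem good (K : Type u) [Field K] [Algebra.EssFiniteType ℤ K] : Good K := by
  obtain ⟨n, hn⟩ := exists_tr K
  exact claim n K hn

/-- **The Mordell-Weil theorem over finitely generated fields** (Mordell, Weil, Néron, Lang). -/
theorem mw (K : Type u) [Field K] [Algebra.EssFiniteType ℤ K] : MW K :=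
  mw_of_good K fun K' _ _ _ => by
    have := essFiniteType_of_finite K K'
    exact good K'

/-- **Roquette's theorem.** -/
theorem roquette (B : Type u) [CommRing B] [IsDomain B] [IsRegularRing B] [Algebra.FiniteType ℤ B] :
    Group.FG Bˣ ∧ Group.FG (CommRing.Pic B) := by
  have key : ∀ (L : Type u) [Field L] [Algebra B L] [IsFractionRing B L], Algebra.EssFiniteType ℤ L := by
    intro L _ _ _
    have h2 : Algebra.EssFiniteType B L := Algebra.EssFiniteType.of_isLocalization L (nonZeroDivisors B)
    exact Algebra.EssFiniteType.comp ℤ B L
  have hess := key (FractionRing B)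
  exact K984.fg_of_good (FractionRing B) (good (FractionRing B)) B

end Groth.Agent.MultTori.K441
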