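import Groth.Agent.MultTori.K441.Defs
import Mathlib.GroupTheory.Descent

/-!
# The descent argument: finite generation from projective coordinates, heights and the weak theorem
-/

set_option autoImplicit false

universe u v

open scoped Pointwise

namespace Groth.Agent.MultTori.K441

/-- Descent with a degree `D` and a size `L`, the constants for `L` being linear in `D`. -/
theorem fg_of_descent {G : Type v} [CommGroup G] (D L : G → ℝ) (hD : ∀ x, 0 ≤ D x) (hL : ∀ x, 0 ≤ L x)
    (hN : ∀ B : ℝ, {x | D x ≤ B ∧ L x ≤ B}.Finite) (a m : ℕ) (ham : a + 2 < m ^ 2)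
    (hfin : Finite (G ⧸ (powMonoidHom m : G →* G).range))
    (hadd : ∀ y, ∃ C : ℝ, ∀ x, D (x * y) ≤ a * D x + C ∧ L (x * y) ≤ a * L x + C * D x + C)
    (hmul : ∃ C : ℝ, ∀ x, (m ^ 2 : ℕ) * D x - C ≤ D (x ^ m) ∧ (m ^ 2 : ℕ) * L x - C * D x - C ≤ L (x ^ m)) :
    Group.FG G := by
  classical
  choose C₁ hC₁ using hadd
  obtain ⟨C₂, hC₂⟩ := hmul
  let f : G →* G := powMonoidHom m
  let q := QuotientGroup.mk (s := f.range)
  let qi : G ⧸ f.range → G := Function.surjInv QuotientGroup.mk_surjective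
  let s : Set G := Set.range qi
  have hs : s.Finite := Set.finite_range qi
  have H₁' : s * f.range = .univ := by
    refine Set.eq_univ_iff_forall.mpr fun x ↦ Set.mem_mul.mpr ⟨qi (q x), by simp [s], ?_⟩
    conv => enter [1, y]; rw [eq_comm, ← div_eq_iff_eq_mul', SetLike.mem_coe]
    simp only [↓existsAndEq, and_true]
    exact QuotientGroup.eq_iff_div_mem.mp (Function.surjInv_eq QuotientGroup.mk_surjective _).symm
  -- a common bound of the constants
  obtain ⟨C, hC0, hC2, hCs⟩ : ∃ C : ℝ, 0 ≤ C ∧ C₂ ≤ C ∧ ∀ g ∈ s, C₁ g⁻¹ ≤ C := by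
    obtain ⟨B, hB⟩ := (hs.image (fun g => C₁ g⁻¹)).bddAbove
    refine ⟨max 0 (max C₂ B), le_max_left _ _, (le_max_left _ _).trans (le_max_right _ _), fun g hg => ?_⟩
    exact (hB (Set.mem_image_of_mem _ hg)).trans ((le_max_right _ _).trans (le_max_right _ _))
  let h : G → ℝ := fun x => C * D x + D x + L x
  have hDh : ∀ x, D x ≤ h x := fun x => by
    have := mul_nonneg hC0 (hD x)
    have := hL x
    simp only [h]; linarith
  have hLh : ∀ x, L x ≤ h x := fun x => by
    have := mul_nonneg hC0 (hD x)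
    have := hD x
    simp only [h]; linarith
  have hCD : ∀ x, C * D x ≤ h x := fun x => by
    have := hD x
    have := hL x
    simp only [h]; linarith
  have : Northcott h := ⟨fun B => (hN B).subset fun x hx => ⟨(hDh x).trans hx, (hLh x).trans hx⟩⟩
  have hM : ((a : ℝ) + 1) < (m ^ 2 : ℕ) - 1 := by
    have : ((a + 2 : ℕ) : ℝ) < (m ^ 2 : ℕ) := by exact_mod_cast ham
    push_cast at this ⊢
    linarith
  refine Group.fg_of_descent (f := f) (s := s) (h := h) (a := a + 1) (b := (m ^ 2 : ℕ) - 1)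
    (c := C * C + 2 * C) (fun U u hu ↦ ?_) (by positivity) hM hs H₁' (fun g hg x ↦ ?_) (fun x => ?_)
  · obtain ⟨u', hu₁, rfl⟩ := Subgroup.mem_map.mp hu
    exact U.pow_mem hu₁ m
  · have h1 := hC₁ g⁻¹ (g * x)
    rw [mul_comm g x, mul_assoc, mul_inv_cancel, mul_one] at h1
    rw [mul_comm g x]
    have hc := hCs g hg
    have hd := hD (x * g)
    have h2 : C₁ g⁻¹ * D (x * g) ≤ C * D (x * g) := mul_le_mul_of_nonneg_right hc hd
    have h3 := hCD (x * g)
    have h4 : D x ≤ a * D (x * g) + C := h1.1.trans (by linarith)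
    have h5 : L x ≤ a * L (x * g) + C * D (x * g) + C := h1.2.trans (by linarith)
    have h6 : C * D x ≤ C * (a * D (x * g) + C) := mul_le_mul_of_nonneg_left h4 hC0
    have h7 : (a : ℝ) * h (x * g) = C * (a * D (x * g)) + a * D (x * g) + a * L (x * g) := by
      simp only [h]; ring
    have h8 : h x = C * D x + D x + L x := rfl
    nlinarith
  · have h1 := hC₂ x
    have hd := hD x
    have h2 : C₂ * D x ≤ C * D x := mul_le_mul_of_nonneg_right hC2 hd
    have h4 : (m ^ 2 : ℕ) * D x - C ≤ D (x ^ m) := le_trans (by linarith) h1.1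
    have h5 : (m ^ 2 : ℕ) * L x - C * D x - C ≤ L (x ^ m) := le_trans (by linarith) h1.2
    have h6 : C * ((m ^ 2 : ℕ) * D x - C) ≤ C * D (x ^ m) := mul_le_mul_of_nonneg_left h4 hC0
    have h3 := hCD x
    have h7 : ((m ^ 2 : ℕ) : ℝ) * h x = C * ((m ^ 2 : ℕ) * D x) + (m ^ 2 : ℕ) * D x + (m ^ 2 : ℕ) * L x := by
      simp only [h]; ring
    have h8 : h (f x) = C * D (x ^ m) + D (x ^ m) + L (x ^ m) := rfl
    rw [h8]
    nlinarith

variable {K : Type u} [Field K]

/-- Finite generation of a group with projective coordinates over a field with heights, given the finiteness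
of the quotient by `m`-th powers for one large `m`. -/
theorem fg_of_projCoord (H : HeightSys K) {G : Type v} [CommGroup G] (P : ProjCoord K G) (m : ℕ)
    (hm : P.m0 ≤ m) (ham : P.a + 2 < m ^ 2) (hfin : Finite (G ⧸ (powMonoidHom m : G →* G).range)) :
    Group.FG G := by
  classical
  refine fg_of_descent (fun x => H.D P.I (P.P x)) (fun x => H.L P.I (P.P x)) (fun x => H.D_nonneg _ _ (P.ne x))
    (fun x => H.L_nonneg _ _ (P.ne x)) (fun B => ?_) P.a m ham hfin (fun y => ?_) ?_
  · obtain ⟨s, hs, h⟩ := H.northcott P.I B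
    have key : ∀ x : G, ∃ c : K, H.D P.I (P.P x) ≤ B ∧ H.L P.I (P.P x) ≤ B → c ≠ 0 ∧ c • P.P x ∈ s := by
      intro x
      by_cases hx : H.D P.I (P.P x) ≤ B ∧ H.L P.I (P.P x) ≤ B
      · obtain ⟨c, h1, h2⟩ := h _ (P.ne x) hx.1 hx.2
        exact ⟨c, fun _ => ⟨h1, h2⟩⟩
      · exact ⟨0, fun h' => (hx h').elim⟩
    choose c hc using key
    refine Set.Finite.of_injOn (f := fun x => c x • P.P x) (t := s) (fun x hx => (hc x hx).2) ?_ hs
    intro x hx y hy hxy
    refine P.inj x y ((c y)⁻¹ * c x) ?_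
    have hxy' : c x • P.P x = c y • P.P y := hxy
    rw [mul_smul, hxy', smul_smul, inv_mul_cancel₀ (hc y hy).1, one_smul]
  · obtain ⟨J, hJ, f, hf, h⟩ := P.add y
    have : ∀ j, ∃ C : ℝ, ∀ v : P.I → K, v ≠ 0 → ev (f j) v ≠ 0 →
      H.D P.I (ev (f j) v) ≤ P.a * H.D P.I v + C ∧ H.L P.I (ev (f j) v) ≤ P.a * H.L P.I v + C * H.D P.I v + C :=
      fun j => H.upper P.I P.I P.a (f j) (hf j)
    choose C hC using this
    have := hJ
    obtain ⟨B, hB⟩ := (Set.finite_range C).bddAbove
    refine ⟨B, fun x => ?_⟩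
    obtain ⟨j, c, hc, hj⟩ := h x
    have hne : ev (f j) (P.P x) ≠ 0 := by
      rw [hj]; exact smul_ne_zero hc (P.ne _)
    have h1 := hC j (P.P x) (P.ne x) hne
    rw [hj, H.D_smul _ _ _ hc (P.ne _), H.L_smul _ _ _ hc (P.ne _)] at h1
    have h2 : C j ≤ B := hB (Set.mem_range_self j)
    have h3 := mul_le_mul_of_nonneg_right h2 (H.D_nonneg P.I (P.P x) (P.ne x))
    exact ⟨by linarith [h1.1], by linarith [h1.2]⟩
  · obtain ⟨N, F, b, hN, hF, hb, hid, h⟩ := P.mul m hm
    obtain ⟨C, hC⟩ := H.lower P.I P.I (m ^ 2) N F b hN hF hb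
    refine ⟨C, fun x => ?_⟩
    obtain ⟨c, hc, hj⟩ := h x
    have h1 := hC (P.P x) (P.ne x) (hid x)
    rw [hj, H.D_smul _ _ _ hc (P.ne _), H.L_smul _ _ _ hc (P.ne _)] at h1
    exact h1

/-- The quotient by `l ^ k`-th powers is finite if the quotient by `l`-th powers is. -/
theorem finite_quot_pow {G : Type v} [CommGroup G] (l : ℕ)
    (h : Finite (G ⧸ (powMonoidHom l : G →* G).range)) (k : ℕ) :
    Finite (G ⧸ (powMonoidHom (l ^ k) : G →* G).range) := by
  induction k with
  | zero =>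
    have : (powMonoidHom (l ^ 0) : G →* G).range = ⊤ := by
      rw [MonoidHom.range_eq_top]
      intro x; exact ⟨x, by simp⟩
    rw [this]
    infer_instance
  | succ k ih =>
    -- `G^(l^k) / G^(l^(k+1))` is a quotient of `G / G^l`
    have h1 : (powMonoidHom l : G →* G).range.FiniteIndex := Subgroup.finiteIndex_of_finite_quotient
    have h2 : (powMonoidHom (l ^ k) : G →* G).range.FiniteIndex := Subgroup.finiteIndex_of_finite_quotient
    have h3 : (powMonoidHom (l ^ (k + 1)) : G →* G).range =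
        ((powMonoidHom l : G →* G).range).map (powMonoidHom (l ^ k)) := by
      ext x
      simp only [MonoidHom.mem_range, powMonoidHom_apply, Subgroup.mem_map]
      constructor
      · rintro ⟨y, rfl⟩
        exact ⟨y ^ l, ⟨y, rfl⟩, by rw [← pow_mul, pow_succ, mul_comm]⟩
      · rintro ⟨_, ⟨y, rfl⟩, rfl⟩
        exact ⟨y, by rw [← pow_mul, pow_succ, mul_comm]⟩
    have h4 : (powMonoidHom (l ^ (k + 1)) : G →* G).range.FiniteIndex := by
      rw [h3]
      constructor
      have := Subgroup.index_map ((powMonoidHom l : G →* G).range) (powMonoidHom (l ^ k) : G →* G)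
      rw [this]
      refine mul_ne_zero ?_ h2.index_ne_zero
      exact (Subgroup.finiteIndex_of_le (H := (powMonoidHom l : G →* G).range) le_sup_left).index_ne_zero
    exact Subgroup.finite_quotient_of_finiteIndex

/-- Mordell-Weil for a group with projective coordinates. -/
theorem fg_of_projCoord' (H : HeightSys K) {G : Type v} [CommGroup G] (P : ProjCoord K G) (l : ℕ)
    (hl : 2 ≤ l) (hfin : Finite (G ⧸ (powMonoidHom l : G →* G).range)) :
    Group.FG G := by
  refine fg_of_projCoord H P (l ^ (P.m0 + P.a + 2)) ?_ ?_ (finite_quot_pow l hfin _)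
  · exact (by omega : P.m0 ≤ P.m0 + P.a + 2).trans (Nat.lt_pow_self (by omega)).le
  · have h1 : P.m0 + P.a + 2 < l ^ (P.m0 + P.a + 2) := Nat.lt_pow_self (by omega)
    have h2 : l ^ (P.m0 + P.a + 2) ≤ (l ^ (P.m0 + P.a + 2)) ^ 2 := Nat.le_self_pow (by norm_num) _
    omega

end Groth.Agent.MultTori.K441
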