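import Groth.Agent.MultTori.K441.Defs
import Groth.Agent.MultTori.K605.Defs
import Groth.Agent.MultTori.K792.Units

/-!
# Comparison of the two notions of factorial models
-/

set_option autoImplicit false
universe u

namespace Groth.Agent.MultTori.K441

open K605.Defs

theorem good_of_hasUFD (K : Type u) [Field K] (h : HasUFD K) : Good K := by
  obtain ⟨A, _, _, _, h1, h2, h3, h4⟩ := h
  exact ⟨A, inferInstance, inferInstance, inferInstance, h2, h1, h3, K792.Units.unitsFG A⟩

theorem isFG_of_separable (n : ℕ) (K L : Type u) [Field K] [Field L] [Algebra K L] [FiniteDimensional K L]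
    [Algebra.IsSeparable K L] (h : IsFG n K) : IsFG n L := by
  obtain ⟨D, _, _, _, hD, hf, hs⟩ := h
  let _ : Algebra (FractionRing (MvPolynomial (Fin n) D)) L :=
    ((algebraMap K L).comp (algebraMap (FractionRing (MvPolynomial (Fin n) D)) K)).toAlgebra
  have : IsScalarTower (FractionRing (MvPolynomial (Fin n) D)) K L := IsScalarTower.of_algebraMap_eq fun _ => rfl
  refine ⟨D, inferInstance, inferInstance, inferInstance, hD, ?_, ?_⟩
  · exact Module.Finite.trans K L
  · exact Algebra.IsSeparable.trans _ K L

end Groth.Agent.MultTori.K441
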