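import Groth.Agent.MultTori.K441.Defs
import Groth.Prelude.Def_TwC
import Groth.Prelude.Def_ActBC
import Groth.Prelude.Def_CGrpSh
import Mathlib.RingTheory.RegularLocalRing.Defs
import Mathlib.RingTheory.PicardGroup
import Mathlib.RingTheory.TensorProduct.Basic
import Mathlib.FieldTheory.PurelyInseparable.Basic
import Mathlib.Algebra.Field.ZMod

/-!
# PLAN for S18688 (never import this file): Mordell-Weil over finitely generated fields and Roquette's theorem

Every node is a sorried statement; a node is delivered as a theorem with exactly this statement in a file of its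
author.
-/

set_option autoImplicit false

universe u v

open CategoryTheory CategoryTheory.Limits AlgebraicGeometry MonObj MonoidalCategory
  CartesianMonoidalCategory TensorProduct

namespace Groth.Agent.MultTori.K441.Plan

/-! ## Heights -/

/-- RQ-A1 (Gelfond's inequality). -/
theorem degNorm_int (r : ℕ) : Nonempty (DegNorm (MvPolynomial (Fin r) ℤ)) := sorry

/-- RQ-A1' -/
theorem degNorm_zmod (p : ℕ) [Fact p.Prime] (r : ℕ) :
    Nonempty (DegNorm (MvPolynomial (Fin r) (ZMod p))) := sorry

/-- RQ-A2 -/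
theorem heightSys_of_degNorm (R : Type v) (K : Type u) [CommRing R] [IsDomain R]
    [UniqueFactorizationMonoid R] [Field K] [Algebra R K] [IsFractionRing R K] (d : DegNorm R) : Nonempty (HeightSys K) := sorry

/-- RQ-A4 -/
theorem projCoord_restrict (F₀ F : Type u) [Field F₀] [Field F] [Algebra F₀ F] [FiniteDimensional F₀ F]
    (G : Type v) [CommGroup G] (P : ProjCoord F G) : Nonempty (ProjCoord F₀ G) := sorry

/-- RQ-A5 (Noether normalization for fields). -/
theorem exists_normalization (F : Type u) [Field F] [Algebra.EssFiniteType ℤ F] :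
    ∃ (F₀ : Subfield F) (r : ℕ), Module.Finite F₀ F ∧
      ((∃ _ : Algebra (MvPolynomial (Fin r) ℤ) F₀, IsFractionRing (MvPolynomial (Fin r) ℤ) F₀) ∨
        ∃ (p : ℕ) (_ : Fact p.Prime) (_ : Algebra (MvPolynomial (Fin r) (ZMod p)) F₀),
          IsFractionRing (MvPolynomial (Fin r) (ZMod p)) F₀) := sorry

/-! ## Geometry of abelian varieties -/

/-- RQ-B -/
theorem projCoord_abelian (K : Type u) [Field K] (A : Over (Spec (CommRingCat.of K))) [GrpObj A]
    [IsCommMonObj A] [IsProper A.hom] [GeometricallyIntegral A.hom] :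
    Nonempty (ProjCoord K (𝟙_ (Over (Spec (CommRingCat.of K))) ⟶ A)) := sorry

/-- RQ-C1 (Chevalley-Weil). -/
theorem chevWeil (K : Type u) [Field K] [Algebra.EssFiniteType ℤ K] : ChevWeil K := sorry

/-- RQ-C2 (weak Mordell-Weil from Chevalley-Weil; Kummer theory). -/
theorem weakMW (K : Type u) [Field K]
    (hg : ∀ (K' : Type u) [Field K'] [Algebra K K'] [FiniteDimensional K K'], Good K' ∧ ChevWeil K')
    (A : Over (Spec (CommRingCat.of K))) [GrpObj A]
    [IsCommMonObj A] [IsProper A.hom] [GeometricallyIntegral A.hom] (l : ℕ) (hl : l.Prime) (hlK : (l : K) ≠ 0) :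
    Finite ((𝟙_ (Over (Spec (CommRingCat.of K))) ⟶ A) ⧸
      (powMonoidHom l : (𝟙_ (Over (Spec (CommRingCat.of K))) ⟶ A) →* _).range) := sorry

/-! ## Curves -/

/-- RQ-D1 -/
theorem exists_pid_of_curve (F : Type u) [Field F]
    (hMW : ∀ (F' : Type u) [Field F'] [Algebra F F'] [FiniteDimensional F F'], MW F')
    (C : Over (Spec (CommRingCat.of F))) (hC : Curve.IsSmoothProperCurve F C.left C.hom)
    [GeometricallyIntegral C.hom] [IsIntegral C.left] (K : Type u) [Field K] [Algebra F K] (hK : IsFF F C K) :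
    ∃ (D : Type u) (_ : CommRing D) (_ : IsDomain D) (_ : Algebra F D) (_ : Algebra D K)
      (_ : IsScalarTower F D K), IsFractionRing D K ∧ Algebra.FiniteType F D ∧ IsPrincipalIdealRing D ∧
      (∀ (E : Type u) [Field E] [Algebra F E], IsDomain (E ⊗[F] D)) ∧
      Group.FG (Dˣ ⧸ (Units.map (algebraMap F D : F →* D)).range) := sorry

/-- RQ-D2 -/
theorem exists_curve (K : Type u) [Field K] [Algebra.EssFiniteType ℤ K] (n : ℕ) (hK : Tr K (n + 1)) :
    ∃ (K' : Type u) (_ : Field K') (_ : Algebra K K') (_ : FiniteDimensional K K')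
      (_ : IsPurelyInseparable K K') (F : Type u) (_ : Field F) (_ : Algebra F K')
      (_ : Algebra.EssFiniteType ℤ F) (_ : Tr F n) (C : Over (Spec (CommRingCat.of F)))
      (_ : Curve.IsSmoothProperCurve F C.left C.hom) (_ : GeometricallyIntegral C.hom)
      (_ : IsIntegral C.left), IsFF F C K' := sorry

/-- RQ-D3 (spreading out with integral fibres). -/
theorem exists_spread (R F D : Type u) [CommRing R] [IsDomain R] [IsNoetherianRing R] [Field F] [Algebra R F]
    [IsFractionRing R F] [CommRing D] [Algebra F D] [Algebra R D] [IsScalarTower R F D]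
    [Algebra.FiniteType F D] (hD : ∀ (E : Type u) [Field E] [Algebra F E], IsDomain (E ⊗[F] D)) :
    ∃ (r : R) (_ : r ≠ 0) (B : Subalgebra R D), Algebra.FiniteType R B ∧
      (∀ d : D, ∃ a : R, a ≠ 0 ∧ a • d ∈ B) ∧
      (∀ x : F, algebraMap F D x ∈ B ↔ ∃ n : ℕ, ∃ y : R, r ^ n • x = algebraMap R F y) ∧
      ∀ p : R, Prime p → ¬ p ∣ r → Prime (algebraMap R B p) := sorry

/-- RQ-D4 (Nagata's criterion and units). -/
theorem good_of_pid (F : Type u) [Field F] (hF : Good F) (D : Type u) [CommRing D] [IsDomain D] [Algebra F D]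
    [Algebra.FiniteType F D] [IsPrincipalIdealRing D]
    (hD : ∀ (E : Type u) [Field E] [Algebra F E], IsDomain (E ⊗[F] D))
    (hu : Group.FG (Dˣ ⧸ (Units.map (algebraMap F D : F →* D)).range))
    (K : Type u) [Field K] [Algebra D K] [IsFractionRing D K] : Good K := sorry

/-- RQ-D5 (finite fields and number fields). -/
theorem good_of_tr_zero (K : Type u) [Field K] [Algebra.EssFiniteType ℤ K] (hK : Tr K 0) : Good K := sorry

/-- RQ-D6 (descent along purely inseparable extensions). -/
theorem good_of_purelyInseparable (K K' : Type u) [Field K] [Field K'] [Algebra.EssFiniteType ℤ K]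
    [Algebra K K'] [FiniteDimensional K K'] [IsPurelyInseparable K K'] (h : Good K') : Good K := sorry

/-- RQ-D7 -/
theorem fg_of_good (K : Type u) [Field K] (hK : Good K) (B : Type u) [CommRing B] [IsDomain B]
    [IsRegularRing B] [Algebra.FiniteType ℤ B] [Algebra B K] [IsFractionRing B K] :
    Group.FG Bˣ ∧ Group.FG (CommRing.Pic B) := sorry

/-! ## Groups of multiplicative type -/

/-- RQ-E -/
theorem fg_H1 (hR : ∀ (B : Type u) [CommRing B] [IsDomain B] [IsRegularRing B] [Algebra.FiniteType ℤ B],
      Group.FG Bˣ ∧ Group.FG (CommRing.Pic B))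
    (A : Type u) [CommRing A] [IsRegularRing A] [Algebra.FiniteType ℤ A]
    (S : Over (Spec (CommRingCat.of A))) [GrpObj S] [IsCommMonObj S]
    (hS : ∃ (Λ : Type) (_ : AddCommGroup Λ), AddGroup.FG Λ ∧
      TwC.Locally (Spec (CommRingCat.of A)) .finiteEtale
        (fun S' g => Nonempty (Grp.mk (Red.bc g S) ≅ Grp.mk (Red.DS S' Λ)))) :
    AddGroup.FG (BigSite.H Scheme.fppfPrecoverage (Spec (CommRingCat.of A))
      (CGrpSh.pts Scheme.fppfPrecoverage S) 1) := sorry

end Groth.Agent.MultTori.K441.Plan
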